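import Cfsg.Agent.Lib.helper11b.HCard2
import Cfsg.Agent.Lib.helper11.ChevHAll
import Cfsg.Agent.Lib.helper11.ChevHOK

/-! The order of the diagonal subgroup for the seven data (Smith normal forms of the Cartan matrices). -/

set_option autoImplicit false

namespace Cfsg.Agent.Lib.helper11

open Cfsg Cfsg.Lie

theorem hsnf1_G2 : (!![0, -1; 1, 2] : Matrix (Fin 2) (Fin 2) ℤ) * cartanM chevG2 2 * !![1, 2; 0, 1] =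
    Matrix.diagonal (fun j => ((![1, 1] : Fin 2 → ℕ) j : ℤ)) := by decide +kernel
theorem hsnf2_G2 : (!![2, 1; -1, 0] : Matrix (Fin 2) (Fin 2) ℤ) * !![0, -1; 1, 2] = 1 := by decide +kernel
theorem hsnf3_G2 : (!![0, -1; 1, 2] : Matrix (Fin 2) (Fin 2) ℤ) * !![2, 1; -1, 0] = 1 := by decide +kernel
theorem hsnf4_G2 : (!![1, 2; 0, 1] : Matrix (Fin 2) (Fin 2) ℤ) * !![1, -2; 0, 1] = 1 := by decide +kernel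

theorem hcard_G2 {F : Type*} [Field F] [Finite F] :
    1 * Nat.card (chevG2.diagonalSubgroup F) = (Nat.card F - 1) ^ 2 := by
  have h := card_diag (F := F) chevG2 (by simp) (nxAll_of_mem chevG2 (by simp))
    (hcert_of_mem chevG2 (by simp)) 2 rfl _ _ _ _ _ hsnf1_G2 hsnf2_G2 hsnf3_G2 hsnf4_G2
  simp only [Fin.prod_univ_succ, Fin.prod_univ_zero, mul_one] at h
  simpa [Nat.gcd_comm, pow_two] using h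

theorem hsnf1_B2 : (!![0, -1; 1, 2] : Matrix (Fin 2) (Fin 2) ℤ) * cartanM chevB2 2 * !![1, 2; 0, 1] =
    Matrix.diagonal (fun j => ((![1, 2] : Fin 2 → ℕ) j : ℤ)) := by decide +kernel
theorem hsnf2_B2 : (!![2, 1; -1, 0] : Matrix (Fin 2) (Fin 2) ℤ) * !![0, -1; 1, 2] = 1 := by decide +kernel
theorem hsnf3_B2 : (!![0, -1; 1, 2] : Matrix (Fin 2) (Fin 2) ℤ) * !![2, 1; -1, 0] = 1 := by decide +kernel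
theorem hsnf4_B2 : (!![1, 2; 0, 1] : Matrix (Fin 2) (Fin 2) ℤ) * !![1, -2; 0, 1] = 1 := by decide +kernel

theorem hcard_B2 {F : Type*} [Field F] [Finite F] :
    Nat.gcd 2 (Nat.card F - 1) * Nat.card (chevB2.diagonalSubgroup F) = (Nat.card F - 1) ^ 2 := by
  have h := card_diag (F := F) chevB2 (by simp) (nxAll_of_mem chevB2 (by simp))
    (hcert_of_mem chevB2 (by simp)) 2 rfl _ _ _ _ _ hsnf1_B2 hsnf2_B2 hsnf3_B2 hsnf4_B2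
  simp only [Fin.prod_univ_succ, Fin.prod_univ_zero, mul_one] at h
  simpa [Nat.gcd_comm, pow_two] using h

theorem hsnf1_D4 : (!![-1, 0, 0, 0; -2, -1, 0, 0; -3, -2, -1, 0; 2, 2, 1, 1] : Matrix (Fin 4) (Fin 4) ℤ) * cartanM chevD4 4 * !![0, 0, 0, 1; 1, 0, 0, 2; 0, 1, -1, 1; 0, 0, 1, 2] =
    Matrix.diagonal (fun j => ((![1, 1, 2, 2] : Fin 4 → ℕ) j : ℤ)) := by decide +kernel
theorem hsnf2_D4 : (!![-1, 0, 0, 0; 2, -1, 0, 0; -1, 2, -1, 0; -1, 0, 1, 1] : Matrix (Fin 4) (Fin 4) ℤ) * !![-1, 0, 0, 0; -2, -1, 0, 0; -3, -2, -1, 0; 2, 2, 1, 1] = 1 := by decide +kernel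
theorem hsnf3_D4 : (!![-1, 0, 0, 0; -2, -1, 0, 0; -3, -2, -1, 0; 2, 2, 1, 1] : Matrix (Fin 4) (Fin 4) ℤ) * !![-1, 0, 0, 0; 2, -1, 0, 0; -1, 2, -1, 0; -1, 0, 1, 1] = 1 := by decide +kernel
theorem hsnf4_D4 : (!![0, 0, 0, 1; 1, 0, 0, 2; 0, 1, -1, 1; 0, 0, 1, 2] : Matrix (Fin 4) (Fin 4) ℤ) * !![-2, 1, 0, 0; -3, 0, 1, 1; -2, 0, 0, 1; 1, 0, 0, 0] = 1 := by decide +kernel

theorem hcard_D4 {F : Type*} [Field F] [Finite F] :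
    Nat.gcd 2 (Nat.card F - 1) ^ 2 * Nat.card (chevD4.diagonalSubgroup F) = (Nat.card F - 1) ^ 4 := by
  have h := card_diag (F := F) chevD4 (by simp) (nxAll_of_mem chevD4 (by simp))
    (hcert_of_mem chevD4 (by simp)) 4 rfl _ _ _ _ _ hsnf1_D4 hsnf2_D4 hsnf3_D4 hsnf4_D4
  simp only [Fin.prod_univ_succ, Fin.prod_univ_zero, mul_one] at h
  simpa [Nat.gcd_comm, pow_two] using h

theorem hsnf1_F4 : (!![-1, 0, 0, 0; 1, 0, -1, 0; -2, -1, 0, 0; -2, -2, -2, -1] : Matrix (Fin 4) (Fin 4) ℤ) * cartanM chevF4 4 * !![0, 0, 1, -2; 1, 0, 2, -4; 0, 0, 2, -3; 0, 1, 2, -2] =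
    Matrix.diagonal (fun j => ((![1, 1, 1, 1] : Fin 4 → ℕ) j : ℤ)) := by decide +kernel
theorem hsnf2_F4 : (!![-1, 0, 0, 0; 2, 0, -1, 0; -1, -1, 0, 0; 0, 2, 2, -1] : Matrix (Fin 4) (Fin 4) ℤ) * !![-1, 0, 0, 0; 1, 0, -1, 0; -2, -1, 0, 0; -2, -2, -2, -1] = 1 := by decide +kernel
theorem hsnf3_F4 : (!![-1, 0, 0, 0; 1, 0, -1, 0; -2, -1, 0, 0; -2, -2, -2, -1] : Matrix (Fin 4) (Fin 4) ℤ) * !![-1, 0, 0, 0; 2, 0, -1, 0; -1, -1, 0, 0; 0, 2, 2, -1] = 1 := by decide +kernel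
theorem hsnf4_F4 : (!![0, 0, 1, -2; 1, 0, 2, -4; 0, 0, 2, -3; 0, 1, 2, -2] : Matrix (Fin 4) (Fin 4) ℤ) * !![-2, 1, 0, 0; 2, 0, -2, 1; -3, 0, 2, 0; -2, 0, 1, 0] = 1 := by decide +kernel

theorem hcard_F4 {F : Type*} [Field F] [Finite F] :
    1 * Nat.card (chevF4.diagonalSubgroup F) = (Nat.card F - 1) ^ 4 := by
  have h := card_diag (F := F) chevF4 (by simp) (nxAll_of_mem chevF4 (by simp))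
    (hcert_of_mem chevF4 (by simp)) 4 rfl _ _ _ _ _ hsnf1_F4 hsnf2_F4 hsnf3_F4 hsnf4_F4
  simp only [Fin.prod_univ_succ, Fin.prod_univ_zero, mul_one] at h
  simpa [Nat.gcd_comm, pow_two] using h

theorem hsnf1_E6 : (!![-1, 0, 0, 0, 0, 0; 0, -1, 0, 0, 0, 0; 1, -2, 0, -1, 0, 0; 2, -3, 0, -2, -1, 0; -2, 1, -1, 0, 0, 0; -5, 0, -4, -3, -2, -1] : Matrix (Fin 6) (Fin 6) ℤ) * cartanM chevE6 6 * !![0, 0, 0, 0, 1, -2; 0, 0, 0, 0, 2, -3; 1, 0, 0, 0, 2, -4; 0, 1, 0, 0, 4, -6; 0, 0, 1, 0, 4, -5; 0, 0, 0, 1, 4, -4] =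
    Matrix.diagonal (fun j => ((![1, 1, 1, 1, 1, 3] : Fin 6 → ℕ) j : ℤ)) := by decide +kernel
theorem hsnf2_E6 : (!![-1, 0, 0, 0, 0, 0; 0, -1, 0, 0, 0, 0; 2, -1, 0, 0, -1, 0; -1, 2, -1, 0, 0, 0; 0, -1, 2, -1, 0, 0; 0, 0, -1, 2, 4, -1] : Matrix (Fin 6) (Fin 6) ℤ) * !![-1, 0, 0, 0, 0, 0; 0, -1, 0, 0, 0, 0; 1, -2, 0, -1, 0, 0; 2, -3, 0, -2, -1, 0; -2, 1, -1, 0, 0, 0; -5, 0, -4, -3, -2, -1] = 1 := by decide +kernel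
theorem hsnf3_E6 : (!![-1, 0, 0, 0, 0, 0; 0, -1, 0, 0, 0, 0; 1, -2, 0, -1, 0, 0; 2, -3, 0, -2, -1, 0; -2, 1, -1, 0, 0, 0; -5, 0, -4, -3, -2, -1] : Matrix (Fin 6) (Fin 6) ℤ) * !![-1, 0, 0, 0, 0, 0; 0, -1, 0, 0, 0, 0; 2, -1, 0, 0, -1, 0; -1, 2, -1, 0, 0, 0; 0, -1, 2, -1, 0, 0; 0, 0, -1, 2, 4, -1] = 1 := by decide +kernel
theorem hsnf4_E6 : (!![0, 0, 0, 0, 1, -2; 0, 0, 0, 0, 2, -3; 1, 0, 0, 0, 2, -4; 0, 1, 0, 0, 4, -6; 0, 0, 1, 0, 4, -5; 0, 0, 0, 1, 4, -4] : Matrix (Fin 6) (Fin 6) ℤ) * !![-2, 0, 1, 0, 0, 0; 0, -2, 0, 1, 0, 0; 2, -3, 0, 0, 1, 0; 4, -4, 0, 0, 0, 1; -3, 2, 0, 0, 0, 0; -2, 1, 0, 0, 0, 0] = 1 := by decide +kernel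

theorem hcard_E6 {F : Type*} [Field F] [Finite F] :
    Nat.gcd 3 (Nat.card F - 1) * Nat.card (chevE6.diagonalSubgroup F) = (Nat.card F - 1) ^ 6 := by
  have h := card_diag (F := F) chevE6 (by simp) (nxAll_of_mem chevE6 (by simp))
    (hcert_of_mem chevE6 (by simp)) 6 rfl _ _ _ _ _ hsnf1_E6 hsnf2_E6 hsnf3_E6 hsnf4_E6
  simp only [Fin.prod_univ_succ, Fin.prod_univ_zero, mul_one] at h
  simpa [Nat.gcd_comm, pow_two] using h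

theorem hsnf1_E7 : (!![-1, 0, 0, 0, 0, 0, 0; 0, -1, 0, 0, 0, 0, 0; 1, -2, 0, -1, 0, 0, 0; 2, -3, 0, -2, -1, 0, 0; 3, -4, 0, -3, -2, -1, 0; -2, 1, -1, 0, 0, 0, 0; -4, -1, -4, -4, -3, -2, -1] : Matrix (Fin 7) (Fin 7) ℤ) * cartanM chevE7 7 * !![0, 0, 0, 0, 0, 1, -2; 0, 0, 0, 0, 0, 2, -3; 1, 0, 0, 0, 0, 2, -4; 0, 1, 0, 0, 0, 4, -6; 0, 0, 1, 0, 0, 4, -5; 0, 0, 0, 1, 0, 4, -4; 0, 0, 0, 0, 1, 4, -3] =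
    Matrix.diagonal (fun j => ((![1, 1, 1, 1, 1, 1, 2] : Fin 7 → ℕ) j : ℤ)) := by decide +kernel
theorem hsnf2_E7 : (!![-1, 0, 0, 0, 0, 0, 0; 0, -1, 0, 0, 0, 0, 0; 2, -1, 0, 0, 0, -1, 0; -1, 2, -1, 0, 0, 0, 0; 0, -1, 2, -1, 0, 0, 0; 0, 0, -1, 2, -1, 0, 0; 0, 0, 0, -1, 2, 4, -1] : Matrix (Fin 7) (Fin 7) ℤ) * !![-1, 0, 0, 0, 0, 0, 0; 0, -1, 0, 0, 0, 0, 0; 1, -2, 0, -1, 0, 0, 0; 2, -3, 0, -2, -1, 0, 0; 3, -4, 0, -3, -2, -1, 0; -2, 1, -1, 0, 0, 0, 0; -4, -1, -4, -4, -3, -2, -1] = 1 := by decide +kernel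
theorem hsnf3_E7 : (!![-1, 0, 0, 0, 0, 0, 0; 0, -1, 0, 0, 0, 0, 0; 1, -2, 0, -1, 0, 0, 0; 2, -3, 0, -2, -1, 0, 0; 3, -4, 0, -3, -2, -1, 0; -2, 1, -1, 0, 0, 0, 0; -4, -1, -4, -4, -3, -2, -1] : Matrix (Fin 7) (Fin 7) ℤ) * !![-1, 0, 0, 0, 0, 0, 0; 0, -1, 0, 0, 0, 0, 0; 2, -1, 0, 0, 0, -1, 0; -1, 2, -1, 0, 0, 0, 0; 0, -1, 2, -1, 0, 0, 0; 0, 0, -1, 2, -1, 0, 0; 0, 0, 0, -1, 2, 4, -1] = 1 := by decide +kernel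
theorem hsnf4_E7 : (!![0, 0, 0, 0, 0, 1, -2; 0, 0, 0, 0, 0, 2, -3; 1, 0, 0, 0, 0, 2, -4; 0, 1, 0, 0, 0, 4, -6; 0, 0, 1, 0, 0, 4, -5; 0, 0, 0, 1, 0, 4, -4; 0, 0, 0, 0, 1, 4, -3] : Matrix (Fin 7) (Fin 7) ℤ) * !![-2, 0, 1, 0, 0, 0, 0; 0, -2, 0, 1, 0, 0, 0; 2, -3, 0, 0, 1, 0, 0; 4, -4, 0, 0, 0, 1, 0; 6, -5, 0, 0, 0, 0, 1; -3, 2, 0, 0, 0, 0, 0; -2, 1, 0, 0, 0, 0, 0] = 1 := by decide +kernel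

theorem hcard_E7 {F : Type*} [Field F] [Finite F] :
    Nat.gcd 2 (Nat.card F - 1) * Nat.card (chevE7.diagonalSubgroup F) = (Nat.card F - 1) ^ 7 := by
  have h := card_diag (F := F) chevE7 (by simp) (nxAll_of_mem chevE7 (by simp))
    (hcert_of_mem chevE7 (by simp)) 7 rfl _ _ _ _ _ hsnf1_E7 hsnf2_E7 hsnf3_E7 hsnf4_E7
  simp only [Fin.prod_univ_succ, Fin.prod_univ_zero, mul_one] at h
  simpa [Nat.gcd_comm, pow_two] using h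

theorem hsnf1_E8 : (!![-1, 0, 0, 0, 0, 0, 0, 0; 0, -1, 0, 0, 0, 0, 0, 0; 1, -2, 0, -1, 0, 0, 0, 0; 2, -3, 0, -2, -1, 0, 0, 0; 3, -4, 0, -3, -2, -1, 0, 0; 4, -5, 0, -4, -3, -2, -1, 0; -2, 1, -1, 0, 0, 0, 0, 0; -3, -2, -4, -5, -4, -3, -2, -1] : Matrix (Fin 8) (Fin 8) ℤ) * cartanM chevE8 8 * !![0, 0, 0, 0, 0, 0, 1, -2; 0, 0, 0, 0, 0, 0, 2, -3; 1, 0, 0, 0, 0, 0, 2, -4; 0, 1, 0, 0, 0, 0, 4, -6; 0, 0, 1, 0, 0, 0, 4, -5; 0, 0, 0, 1, 0, 0, 4, -4; 0, 0, 0, 0, 1, 0, 4, -3; 0, 0, 0, 0, 0, 1, 4, -2] =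
    Matrix.diagonal (fun j => ((![1, 1, 1, 1, 1, 1, 1, 1] : Fin 8 → ℕ) j : ℤ)) := by decide +kernel
theorem hsnf2_E8 : (!![-1, 0, 0, 0, 0, 0, 0, 0; 0, -1, 0, 0, 0, 0, 0, 0; 2, -1, 0, 0, 0, 0, -1, 0; -1, 2, -1, 0, 0, 0, 0, 0; 0, -1, 2, -1, 0, 0, 0, 0; 0, 0, -1, 2, -1, 0, 0, 0; 0, 0, 0, -1, 2, -1, 0, 0; 0, 0, 0, 0, -1, 2, 4, -1] : Matrix (Fin 8) (Fin 8) ℤ) * !![-1, 0, 0, 0, 0, 0, 0, 0; 0, -1, 0, 0, 0, 0, 0, 0; 1, -2, 0, -1, 0, 0, 0, 0; 2, -3, 0, -2, -1, 0, 0, 0; 3, -4, 0, -3, -2, -1, 0, 0; 4, -5, 0, -4, -3, -2, -1, 0; -2, 1, -1, 0, 0, 0, 0, 0; -3, -2, -4, -5, -4, -3, -2, -1] = 1 := by decide +kernel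
theorem hsnf3_E8 : (!![-1, 0, 0, 0, 0, 0, 0, 0; 0, -1, 0, 0, 0, 0, 0, 0; 1, -2, 0, -1, 0, 0, 0, 0; 2, -3, 0, -2, -1, 0, 0, 0; 3, -4, 0, -3, -2, -1, 0, 0; 4, -5, 0, -4, -3, -2, -1, 0; -2, 1, -1, 0, 0, 0, 0, 0; -3, -2, -4, -5, -4, -3, -2, -1] : Matrix (Fin 8) (Fin 8) ℤ) * !![-1, 0, 0, 0, 0, 0, 0, 0; 0, -1, 0, 0, 0, 0, 0, 0; 2, -1, 0, 0, 0, 0, -1, 0; -1, 2, -1, 0, 0, 0, 0, 0; 0, -1, 2, -1, 0, 0, 0, 0; 0, 0, -1, 2, -1, 0, 0, 0; 0, 0, 0, -1, 2, -1, 0, 0; 0, 0, 0, 0, -1, 2, 4, -1] = 1 := by decide +kernel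
theorem hsnf4_E8 : (!![0, 0, 0, 0, 0, 0, 1, -2; 0, 0, 0, 0, 0, 0, 2, -3; 1, 0, 0, 0, 0, 0, 2, -4; 0, 1, 0, 0, 0, 0, 4, -6; 0, 0, 1, 0, 0, 0, 4, -5; 0, 0, 0, 1, 0, 0, 4, -4; 0, 0, 0, 0, 1, 0, 4, -3; 0, 0, 0, 0, 0, 1, 4, -2] : Matrix (Fin 8) (Fin 8) ℤ) * !![-2, 0, 1, 0, 0, 0, 0, 0; 0, -2, 0, 1, 0, 0, 0, 0; 2, -3, 0, 0, 1, 0, 0, 0; 4, -4, 0, 0, 0, 1, 0, 0; 6, -5, 0, 0, 0, 0, 1, 0; 8, -6, 0, 0, 0, 0, 0, 1; -3, 2, 0, 0, 0, 0, 0, 0; -2, 1, 0, 0, 0, 0, 0, 0] = 1 := by decide +kernel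

theorem hcard_E8 {F : Type*} [Field F] [Finite F] :
    1 * Nat.card (chevE8.diagonalSubgroup F) = (Nat.card F - 1) ^ 8 := by
  have h := card_diag (F := F) chevE8 (by simp) (nxAll_of_mem chevE8 (by simp))
    (hcert_of_mem chevE8 (by simp)) 8 rfl _ _ _ _ _ hsnf1_E8 hsnf2_E8 hsnf3_E8 hsnf4_E8
  simp only [Fin.prod_univ_succ, Fin.prod_univ_zero, mul_one] at h
  simpa [Nat.gcd_comm, pow_two] using h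

end Cfsg.Agent.Lib.helper11
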